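import Groth.Agent.H26ChowK.Main
import Groth.Agent.H22Alg.DimFunLft
import Groth.Agent.H22Alg.CycBasic
import Groth.Agent.H05EGA4.FormalCatenary
import Groth.Agent.H29Ref.RefPow

/-!
# Dimension functions over a field and Euler characteristics of reflexive powers
-/

set_option autoImplicit false
set_option linter.style.haveILetI false
universe u w

open CategoryTheory CategoryTheory.Limits AlgebraicGeometry
open Groth.Agent.H8Props.FieldDim

noncomputable section

namespace Groth.Agent.H26ChowK

section dimfun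

variable {k : Type u} [Field k] {X : Scheme.{u}} (f : X ⟶ Spec (CommRingCat.of k))

theorem isSetup_spec_field : Cyc.IsSetup (Spec (CommRingCat.of k)) fun _ => (0 : ℤ) := by
  refine ⟨inferInstance, fun s => ?_, fun x y _ hne => absurd (Subsingleton.elim (α := PrimeSpectrum k) x y) hne⟩
  haveI : Subsingleton (PrimeSpectrum k) := inferInstance
  have hs : s.asIdeal.primeCompl ≤ IsUnit.submonoid k := fun x hx =>
    isUnit_iff_ne_zero.2 fun h0 => hx (h0 ▸ s.asIdeal.zero_mem)
  have hf0 : IsField (Localization.AtPrime s.asIdeal) :=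
    (IsLocalization.atUnits k s.asIdeal.primeCompl hs).toMulEquiv.symm.isField (Field.toIsField k)
  have hf : IsField ((Spec (CommRingCat.of k)).presheaf.stalk s) :=
    (StructureSheaf.stalkIso k s).symm.toMulEquiv.isField hf0
  haveI : IsAdicComplete (IsLocalRing.maximalIdeal ((Spec (CommRingCat.of k)).presheaf.stalk s))
      ((Spec (CommRingCat.of k)).presheaf.stalk s) := by
    rw [IsLocalRing.isField_iff_maximalIdeal_eq.mp hf]
    infer_instance
  exact H05EGA4.isUniversallyCatenary_of_isAdicComplete _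

/-- A dimension function on a scheme locally of finite type over a field. -/
theorem exists_isDimFun [LocallyOfFiniteType f] :
    ∃ δ : X → ℤ, Cyc.IsDimFun X δ ∧ (∀ x, 0 ≤ δ x) ∧
      ∀ (n : ℕ), topologicalKrullDim X = (n : ℕ) → ∀ x, δ x ≤ (n : ℤ) := by
  have hex : ∀ x : X, ∃ m : ℕ, (letI := (f.residueFieldMap x).hom.toAlgebra
      Algebra.trdeg ((Spec (CommRingCat.of k)).residueField (f x)) (X.residueField x)) = m := fun x => by
    have key : ∀ u : f.fiber (f x), f.fiberι (f x) u = x →
        ∃ s : ℕ, (letI := (f.residueFieldMap x).hom.toAlgebra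
          Algebra.trdeg ((Spec (CommRingCat.of k)).residueField (f x)) (X.residueField x)) = s := by
      intro u hu
      obtain ⟨s, -, h2⟩ := exists_trdeg_fiber f u
      refine ⟨s, ?_⟩
      convert! h2 using 3 <;> rw [hu]
    exact key _ (f.fiberι_asFiber x)
  choose m hm using hex
  have hc : Cyc.DeltaCompat f (fun x => (m x : ℤ)) fun _ => 0 := fun x => ⟨m x, hm x, (zero_add _).symm⟩
  refine ⟨fun x => (m x : ℤ), H22Alg.DimFunLft.isDimFun_of_deltaCompat f _ isSetup_spec_field _ hc,
    fun x => Int.natCast_nonneg _, fun n hn x => ?_⟩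
  obtain ⟨c, hc1, hc2⟩ := H22Alg.CycBasic.exists_cdim f hc x
  have h1 : cdim (f.asFiber x) ≤ topologicalKrullDim (f.fiber (f x)) :=
    dim_mono (Set.subset_univ _) |>.trans (le_of_eq (Homeomorph.Set.univ _).isHomeomorph.topologicalKrullDim_eq)
  have h2 : topologicalKrullDim (f.fiber (f x)) ≤ topologicalKrullDim X :=
    (f.fiberι (f x)).isEmbedding.isInducing.topologicalKrullDim_le
  have h3 : (c : WithBot ℕ∞) ≤ (n : ℕ) := hc1 ▸ h1.trans (h2.trans hn.le)
  have h4 : c ≤ n := by exact_mod_cast h3
  show (m x : ℤ) ≤ n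
  omega

end dimfun

variable {X : Scheme.{u}} [IsNoetherian X] {δ : X → ℤ} {k : Type u} [Field k]
  [X.Over (Spec (CommRingCat.of k))] [IsProper (X ↘ Spec (CommRingCat.of k))]

/-- The Euler characteristic as a function killing the empty support. -/
theorem isAddG_euler {b : ℤ} (hb : ∀ x, b < δ x) : IsAddG δ b (Curv2.euler k X) where
  congr := H25Euler.euler_congr
  add _ hS h₁ h₂ h₃ := H25Euler.euler_add hS h₁ h₂ h₃
  small F _ hs := (H28Int.isAddFn_euler k).zero (H16Derived.KFlat.Stalk.isZero_of_stalk fun x =>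
    (H25Euler.notMem_support_iff F x).1 fun hx => absurd (hs x hx) (not_le.2 (hb x)))

theorem D_euler_eq : ∀ (l : List X.Modules) (F : X.Modules),
    D (Curv2.euler k X) l F = H28Int.D k l F
  | [], _ => rfl
  | M :: l, F => by
    show D _ l F - D _ l (CohB1.tensorMod M F) = H28Int.D k l F - H28Int.D k l (CohB1.tensorMod M F)
    rw [D_euler_eq l, D_euler_eq l]

/-- Additive functions killing codimension two are affine on reflexive powers. -/
theorem IsAddG.refPow_affine [IsIntegral X] {A : Type w} [AddCommGroup A] {b : ℤ} {ψ : X.Modules → A}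
    (hψ : IsAddG δ b ψ) (hd : Cyc.IsDimFun X δ) (hX : Pi1.IsNormalScheme X)
    (hb : δ (genericPoint X) ≤ b + 2) {M : X.Modules} (hM : RefHull.IsRef1 M) :
    ∀ m : ℕ, ψ (RefPow.refPow M m) =
      ψ (Coh.structureModule X) + (m : ℤ) • (ψ M - ψ (Coh.structureModule X))
  | 0 => by simp
  | 1 => by simp
  | m + 2 => by
    have h := hψ.refTensor_add hd hX hb (H29Ref.isRef1_refPow hM (m + 1)) hM
    rw [IsAddG.refPow_affine hψ hd hX hb hM (m + 1)] at h
    change ψ (RefPow.refTensor (RefPow.refPow M (m + 1)) M) = _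
    have e : ((m + 2 : ℕ) : ℤ) = ((m + 1 : ℕ) : ℤ) + 1 := by push_cast; ring
    rw [e, add_zsmul, one_zsmul]
    linear_combination (norm := abel) h

end Groth.Agent.H26ChowK
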