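import Groth.Prelude.Def_ChowK
import Groth.Agent.H28Int.Core
import Groth.Agent.H10Coh.TensorTilde

/-!
# Functions on coherent modules which ignore modules of small δ-dimension

Functions with values in an abelian group, additive on short exact sequences of coherent modules and
vanishing on modules whose support has δ-dimension at most `b`.
-/

set_option autoImplicit false
set_option linter.style.haveILetI false
universe u w

open CategoryTheory CategoryTheory.Limits AlgebraicGeometry TopologicalSpace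
open scoped MonoidalCategory
open Groth.Agent.H16Derived.KFlat.Stalk

noncomputable section

namespace Groth.Agent.H26ChowK

variable {X : Scheme.{u}} {A : Type w} [AddCommGroup A] {δ : X → ℤ} {b : ℤ}

/-- `ψ` is additive on coherent modules and kills those with support of δ-dimension `≤ b`. -/
structure IsAddG (δ : X → ℤ) (b : ℤ) (ψ : X.Modules → A) : Prop where
  congr : ∀ {F G : X.Modules}, (F ≅ G) → ψ F = ψ G
  add : ∀ S : ShortComplex X.Modules, S.ShortExact → Coh.IsCoh S.X₁ → Coh.IsCoh S.X₂ → Coh.IsCoh S.X₃ →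
    ψ S.X₂ = ψ S.X₁ + ψ S.X₃
  small : ∀ F : X.Modules, Coh.IsCoh F → (∀ x ∈ CohB1.support F, δ x ≤ b) → ψ F = 0

/-- The morphism is an isomorphism on the stalk at `x`. -/
abbrev IsoAt {F G : X.Modules} (φ : F ⟶ G) (x : X) : Prop :=
  IsIso ((DerSch.stalkFunctor X x).map φ)

/-- `M` is trivial near `x`. -/
def NearTriv (M : X.Modules) (x : X) : Prop :=
  ∃ U : X.Opens, x ∈ U ∧ Nonempty (M.restrict U.ι ≅ Coh.structureModule (U : Scheme.{u}))

theorem notMem_support_kernel {F G : X.Modules} (φ : F ⟶ G) {x : X} (h : IsoAt φ x) :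
    x ∉ CohB1.support (kernel φ) := by
  refine (H25Euler.notMem_support_iff (kernel φ) x).2 ?_
  have h2 : (DerSch.stalkFunctor X x).map (kernel.ι φ) = 0 := by
    rw [← cancel_mono ((DerSch.stalkFunctor X x).map φ), ← Functor.map_comp, kernel.condition,
      Functor.map_zero, zero_comp]
  have := (DerSch.stalkFunctor X x).map_mono (kernel.ι φ)
  rw [IsZero.iff_id_eq_zero, ← cancel_mono ((DerSch.stalkFunctor X x).map (kernel.ι φ)), h2,
    comp_zero, comp_zero]

theorem notMem_support_cokernel {F G : X.Modules} (φ : F ⟶ G) {x : X} (h : IsoAt φ x) :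
    x ∉ CohB1.support (cokernel φ) := by
  refine (H25Euler.notMem_support_iff (cokernel φ) x).2 ?_
  have h2 : (DerSch.stalkFunctor X x).map (cokernel.π φ) = 0 := by
    rw [← cancel_epi ((DerSch.stalkFunctor X x).map φ), ← Functor.map_comp, cokernel.condition,
      Functor.map_zero, comp_zero]
  have := (DerSch.stalkFunctor X x).map_epi (cokernel.π φ)
  rw [IsZero.iff_id_eq_zero, ← cancel_epi ((DerSch.stalkFunctor X x).map (cokernel.π φ)), h2,
    zero_comp, zero_comp]

/-- An isomorphism over an open is an isomorphism on the stalks there. -/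
theorem isoAt_of_restrict (U : X.Opens) {M N : X.Modules} (φ : M ⟶ N)
    [IsIso ((Scheme.Modules.restrictFunctor U.ι).map φ)] {x : X} (hx : x ∈ U) : IsoAt φ x := by
  rw [IsoAt, ConcreteCategory.isIso_iff_bijective]
  let y : U.toScheme := ⟨x, hx⟩
  haveI : IsIso ((Scheme.Modules.restrictFunctor U.ι ⋙ Scheme.Modules.toPresheaf _ ⋙
      TopCat.Presheaf.stalkFunctor Ab.{u} y).map φ) := by
    rw [Functor.comp_map]; infer_instance
  have h := (NatIso.isIso_map_iff (Scheme.Modules.restrictStalkNatIso U.ι ⟨x, hx⟩) φ).1 this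
  exact (ConcreteCategory.isIso_iff_bijective
    ((Scheme.Modules.toPresheaf X ⋙ TopCat.Presheaf.stalkFunctor Ab.{u} (U.ι ⟨x, hx⟩)).map φ)).1 h

variable [IsNoetherian X]

/-- A morphism bijective on the stalks at the points of dimension `> b` does not change `ψ`. -/
theorem IsAddG.eq_of_isoAt {ψ : X.Modules → A} (hψ : IsAddG δ b ψ) {G F : X.Modules} (φ : G ⟶ F)
    (hG : Coh.IsCoh G) (hF : Coh.IsCoh F)
    (h : ∀ x, b < δ x → (x ∈ CohB1.support G ∨ x ∈ CohB1.support F) → IsoAt φ x) : ψ G = ψ F := by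
  have hK := H10Coh.isCoh_kernel φ hG hF.1
  have hQ := H10Coh.isCoh_cokernel φ hG.1 hF
  have hI := H10Coh.isCoh_kernel (cokernel.π φ) hF hQ.1
  have hS₁ : (ShortComplex.mk (kernel.ι φ) (Abelian.factorThruImage φ)
      (by rw [← cancel_mono (Abelian.image.ι φ), Category.assoc, Abelian.image.fac, kernel.condition,
        zero_comp])).ShortExact :=
    { exact := ShortComplex.exact_of_f_is_kernel _ (KernelFork.IsLimit.ofι' _ _ fun g hg =>
        ⟨kernel.lift φ g (by
          rw [← Abelian.image.fac φ, ← Category.assoc, hg, zero_comp]), kernel.lift_ι _ _ _⟩)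
      epi_g := inferInstanceAs (Epi (Abelian.factorThruImage φ)) }
  have hS₂ : (ShortComplex.mk (kernel.ι (cokernel.π φ)) (cokernel.π φ) (kernel.condition _)).ShortExact :=
    { exact := ShortComplex.exact_kernel _ }
  have e1 := hψ.add _ hS₁ hK hG hI
  have e2 := hψ.add _ hS₂ hI hF hQ
  change ψ G = ψ (kernel φ) + ψ (kernel (cokernel.π φ)) at e1
  change ψ F = ψ (kernel (cokernel.π φ)) + ψ (cokernel φ) at e2
  have zK : ψ (kernel φ) = 0 := hψ.small _ hK fun x hx => by
    by_contra hlt
    exact notMem_support_kernel φ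
      (h x (not_le.1 hlt) (Or.inl (LeadDev.support_subset_of_mono (kernel.ι φ) hx))) hx
  have zQ : ψ (cokernel φ) = 0 := hψ.small _ hQ fun x hx => by
    by_contra hlt
    exact notMem_support_cokernel φ
      (h x (not_le.1 hlt) (Or.inr (LeadDev.support_subset_of_epi (cokernel.π φ) hx))) hx
  rw [e1, e2, zK, zQ, zero_add, add_zero]

/-- A module trivial near `x` has a flat stalk at `x`, and is compared with the structure sheaf. -/
theorem exists_compare_triv {M : X.Modules} (hM : Coh.IsCoh M) {x : X} (h : NearTriv M x) :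
    ∃ (U : X.Opens) (H : X.Modules) (p : H ⟶ M) (q : H ⟶ Coh.structureModule X), x ∈ U ∧ Coh.IsCoh H ∧
      (∀ y ∈ U, IsoAt p y ∧ IsoAt q y) := by
  obtain ⟨U, hx, ⟨e⟩⟩ := h
  obtain ⟨H, p, q, hH, -, hp, hq⟩ := LeadDev.exists_compare U.ι hM (H10Coh.isCoh_structureModule' X)
    (e ≪≫ (Scheme.Modules.restrictUnitIso U.ι).symm).hom
  haveI := hp
  haveI : IsIso ((Scheme.Modules.restrictFunctor U.ι).map q) := by rw [hq]; infer_instance
  exact ⟨U, H, p, q, hx, hH, fun y hy => ⟨isoAt_of_restrict U p hy, isoAt_of_restrict U q hy⟩⟩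

theorem isInv_structureModule (Y : Scheme.{u}) : PicF.IsInvertible (Coh.structureModule Y) := fun _ =>
  ⟨⊤, trivial, ⟨Scheme.Modules.restrictUnitIso _⟩⟩

theorem flat_of_nearTriv {M : X.Modules} (hM : Coh.IsCoh M) {x : X} (h : NearTriv M x) :
    Module.Flat (X.presheaf.stalk x) ((DerSch.stalkFunctor X x).obj M) := by
  obtain ⟨U, H, p, q, hx, -, hU⟩ := exists_compare_triv hM h
  haveI := (hU x hx).1
  haveI := (hU x hx).2
  let e := ((asIso ((DerSch.stalkFunctor X x).map p)).symm ≪≫
    asIso ((DerSch.stalkFunctor X x).map q)).toLinearEquiv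
  haveI : Module.Flat (X.presheaf.stalk x) ((DerSch.stalkFunctor X x).obj (Coh.structureModule X)) :=
    isFlat_of_isFinLocFree (H28Pinch.isFinLocFree_of_isInvertible
      (isInv_structureModule X)) x
  exact Module.Flat.of_linearEquiv e

/-- Tensoring on the right with a module flat at the points of dimension `> b` keeps additivity. -/
theorem IsAddG.tensorRight' {ψ : X.Modules → A} (hψ : IsAddG δ b ψ) {M : X.Modules} (hM : Coh.IsCoh M)
    (hgood : ∀ x, b < δ x → Module.Flat (X.presheaf.stalk x) ((DerSch.stalkFunctor X x).obj M)) :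
    IsAddG δ b fun G => ψ (CohB1.tensorMod G M) where
  congr e := hψ.congr (PicGrp.tensorModIso e (Iso.refl M))
  small F hF hs := hψ.small _ (H10Coh.TT.isCoh_tensorMod hF hM) fun x hx =>
    hs x (H25Euler.support_tensor_subset F M hx)
  add S hS h₁ h₂ h₃ := by
    let T := (DCoh.tensorBi (X := X)).flip.obj M
    have c₁ : Coh.IsCoh (T.obj S.X₁) := H10Coh.TT.isCoh_tensorMod h₁ hM
    have c₂ : Coh.IsCoh (T.obj S.X₂) := H10Coh.TT.isCoh_tensorMod h₂ hM
    have c₃ : Coh.IsCoh (T.obj S.X₃) := H10Coh.TT.isCoh_tensorMod h₃ hM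
    change ψ (T.obj S.X₂) = ψ (T.obj S.X₁) + ψ (T.obj S.X₃)
    let S' := S.map T
    haveI := hS.epi_g
    haveI : Epi S'.g := inferInstanceAs (Epi (T.map S.g))
    have hex : S'.Exact := hS.exact.map_of_epi_of_preservesCokernel T inferInstance inferInstance
    have hc : Coh.IsCoh (kernel S'.g) := H10Coh.isCoh_kernel S'.g c₂ c₃.1
    have hS₂ : (ShortComplex.mk (kernel.ι S'.g) S'.g (kernel.condition _)).ShortExact :=
      { exact := ShortComplex.exact_kernel _ }
    have e2 : ψ (T.obj S.X₂) = ψ (kernel S'.g) + ψ (T.obj S.X₃) := hψ.add _ hS₂ hc c₂ c₃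
    haveI : Epi (kernel.lift S'.g S'.f S'.zero) := S'.exact_iff_epi_kernel_lift.1 hex
    have e1 : ψ (T.obj S.X₁) = ψ (kernel S'.g) := by
      refine hψ.eq_of_isoAt (kernel.lift S'.g S'.f S'.zero) c₁ hc fun x hx _ => ?_
      haveI := hgood x hx
      haveI : Mono ((DerSch.stalkFunctor X x).map S'.f) :=
        (ShortComplex.shortExact_of_iso (S.mapNatIso (rightIso M x).symm)
          ((hS.map_of_exact (DerSch.stalkFunctor X x)).map_of_exact (MonoidalCategory.tensorRight _))).mono_f
      haveI : Mono ((DerSch.stalkFunctor X x).map (kernel.lift S'.g S'.f S'.zero) ≫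
          (DerSch.stalkFunctor X x).map (kernel.ι S'.g)) := by
        rw [← Functor.map_comp, kernel.lift_ι]; infer_instance
      haveI hm : Mono ((DerSch.stalkFunctor X x).map (kernel.lift S'.g S'.f S'.zero)) :=
        mono_of_mono _ ((DerSch.stalkFunctor X x).map (kernel.ι S'.g))
      haveI he : Epi ((DerSch.stalkFunctor X x).map (kernel.lift S'.g S'.f S'.zero)) :=
        Functor.map_epi _ _
      exact isIso_of_mono_of_epi ((DerSch.stalkFunctor X x).map (kernel.lift S'.g S'.f S'.zero))
    rw [e2, e1]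

/-- Tensoring with `p` preserves being an isomorphism on a stalk. -/
theorem isoAt_tensor_left (G : X.Modules) {H M : X.Modules} (p : H ⟶ M) {x : X} (h : IsoAt p x) :
    IsoAt (((DCoh.tensorBi (X := X)).obj G).map p) x := by
  have := h
  exact (NatIso.isIso_map_iff (leftIso G x) p).2
    (inferInstanceAs (IsIso ((MonoidalCategory.tensorLeft _).map ((DerSch.stalkFunctor X x).map p))))

/-- **Twist invariance**: on modules with support of dimension `≤ b + 1`, a function killing dimension
`≤ b` does not see twisting by a module trivial near the points of dimension `> b`. -/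
theorem IsAddG.twist_eq (hd : Cyc.IsDimFun X δ) {ψ : X.Modules → A} (hψ : IsAddG δ b ψ)
    {M : X.Modules} (hM : Coh.IsCoh M) (hgood : ∀ x, b < δ x → NearTriv M x)
    {F : X.Modules} (hF : Coh.IsCoh F) (hFd : ∀ x ∈ CohB1.support F, δ x ≤ b + 1) :
    ψ (CohB1.tensorMod F M) = ψ F := by
  have hτ := hψ.tensorRight' hM fun x hx => flat_of_nearTriv hM (hgood x hx)
  refine LeadDev.devissage_induction (CohB1.support F) (fun G => ψ (CohB1.tensorMod G M) = ψ G)
    (fun A B ⟨e⟩ h => by rw [← hψ.congr e, ← h]; exact (hτ.congr e).symm)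
    (fun A hA => (hτ.small A (LeadDev.isCoh_of_isZero hA) fun x hx =>
        absurd hx ((H25Euler.notMem_support_iff A x).2 ((DerSch.stalkFunctor X x).map_isZero hA))).trans
      (hψ.small A (LeadDev.isCoh_of_isZero hA) fun x hx =>
        absurd hx ((H25Euler.notMem_support_iff A x).2 ((DerSch.stalkFunctor X x).map_isZero hA))).symm)
    (fun S hS h₁ h₂ h₃ p₁ p₃ => by
      have e := hτ.add S hS h₁ h₂ h₃
      beta_reduce at e
      rw [e, p₁, p₃, hψ.add S hS h₁ h₂ h₃])
    ?_ F hF le_rfl
  intro Z i _ _ hrange _ I ι _ hI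
  let G := (Coh.push i).obj I
  haveI : I.IsQuasicoherent := hI
  have hG : Coh.IsCoh G := H10Coh.isCoh_of_mono ((Coh.push i).map ι)
    (H10Coh.isQuasicoherent_pushforward i I) (LeadDev.isCoh_push_structure i)
  have hGs : CohB1.support G ⊆ Set.range i := fun x hx => by
    by_contra hxr
    exact LeadDev.notMem_support_push i I hxr hx
  let ξ := i (genericPoint Z)
  -- the only point of dimension `> b` in the range of `i` is its generic point
  have honly : ∀ y ∈ Set.range i, b < δ y → y = ξ := fun y hy hlt => by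
    by_contra hne
    have hsp : ξ ⤳ y := by
      rw [specializes_iff_mem_closure, ← LeadDev.range_eq_closure i (ξ := ξ) rfl]; exact hy
    have h1 := (hd ξ y hsp (Ne.symm hne)).1
    have h2 := hFd ξ (hrange ⟨_, rfl⟩)
    omega
  by_cases hξ : b < δ ξ
  · obtain ⟨U, H, p, q, hξU, hH, hU⟩ := exists_compare_triv hM (hgood ξ hξ)
    have hsub : ∀ N : X.Modules, CohB1.support (CohB1.tensorMod G N) ⊆ Set.range i := fun N =>
      (H25Euler.support_tensor_subset G N).trans hGs
    have key : ∀ {N : X.Modules}, Coh.IsCoh N → ∀ r : H ⟶ N, (∀ y ∈ U, IsoAt r y) →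
        ψ (CohB1.tensorMod G H) = ψ (CohB1.tensorMod G N) := fun hN r hr =>
      hψ.eq_of_isoAt (((DCoh.tensorBi (X := X)).obj G).map r) (H10Coh.TT.isCoh_tensorMod hG hH)
        (H10Coh.TT.isCoh_tensorMod hG hN) fun y hy hys => isoAt_tensor_left G r <| hr y <| by
          rw [honly y (hys.elim (hsub _ ·) (hsub _ ·)) hy]; exact hξU
    exact (key hM p fun y hy => (hU y hy).1).symm.trans
      ((key (H10Coh.isCoh_structureModule' X) q fun y hy => (hU y hy).2).trans
        (hψ.congr (H10Coh.Tw.rightUnitIso G)))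
  · have hs : ∀ y ∈ CohB1.support G, δ y ≤ b := fun y hy => by
      by_contra hlt
      exact hξ (honly y (hGs hy) (not_le.1 hlt) ▸ not_le.1 hlt)
    exact (hτ.small G hG hs).trans (hψ.small G hG hs).symm

/-- The difference with a twist kills one more dimension. -/
theorem IsAddG.sub_tensor (hd : Cyc.IsDimFun X δ) {ψ : X.Modules → A} (hψ : IsAddG δ b ψ)
    {M : X.Modules} (hM : Coh.IsCoh M) (hgood : ∀ x, b < δ x → NearTriv M x) :
    IsAddG δ (b + 1) fun G => ψ G - ψ (CohB1.tensorMod G M) := by
  have hτ := hψ.tensorRight' hM fun x hx => flat_of_nearTriv hM (hgood x hx)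
  refine ⟨fun e => ?_, fun S hS h₁ h₂ h₃ => ?_, fun F hF hs => ?_⟩
  · have h2 := hτ.congr e
    beta_reduce at h2
    simp only [hψ.congr e, h2]
  · have h2 := hτ.add S hS h₁ h₂ h₃
    beta_reduce at h2
    simp only [hψ.add S hS h₁ h₂ h₃, h2]
    abel
  · rw [hψ.twist_eq hd hM hgood hF hs, sub_self]

/-- Modules agreeing near the only point of dimension `> b` have the same value. -/
theorem IsAddG.eq_structureModule {ψ : X.Modules → A} (hψ : IsAddG δ b ψ) {ξ : X}
    (honly : ∀ x, b < δ x → x = ξ) {M : X.Modules} (hM : Coh.IsCoh M) (h : NearTriv M ξ) :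
    ψ M = ψ (Coh.structureModule X) := by
  obtain ⟨U, H, p, q, hξU, hH, hU⟩ := exists_compare_triv hM h
  rw [← hψ.eq_of_isoAt p hH hM fun x hx _ => (hU x (honly x hx ▸ hξU)).1,
    ← hψ.eq_of_isoAt q hH (H10Coh.isCoh_structureModule' X) fun x hx _ => (hU x (honly x hx ▸ hξU)).2]

end Groth.Agent.H26ChowK
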