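import Groth.Agent.H26ChowK.Ref
import Groth.Agent.H25K.CohRank
import Groth.Agent.H22Alg.CohSupport
import Groth.Agent.H16Derived.KFlat.PullDerived
import Groth.Agent.H29Fitt.PullbackQCoh
import Groth.Agent.H29Ref.BigOpen
import Groth.Prelude.Def_Frob

/-!
# Generators modulo codimension two and Frobenius pullback
-/

set_option autoImplicit false
set_option linter.style.haveILetI false
universe u w

open CategoryTheory CategoryTheory.Limits AlgebraicGeometry TopologicalSpace
open Groth.Agent.H06Mod

attribute [local instance] Groth.Agent.H06Mod.stalkAlgebra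

noncomputable section

namespace Groth.Agent.H26ChowK

variable {X : Scheme.{u}} {A : Type w} [AddCommGroup A] {δ : X → ℤ} {b : ℤ}

/-- The closure of a point. -/
abbrev cl (ξ : X) : Closeds X := ⟨closure {ξ}, isClosed_closure⟩

/-- The length of a stalk, as an integer. -/
def lenZ (G : X.Modules) (x : X) : ℤ := ((Module.length (X.presheaf.stalk x) (G.presheaf.stalk x)).toNat : ℤ)

theorem lenZ_of_notMem {G : X.Modules} {x : X} (h : x ∉ CohB1.support G) : lenZ G x = 0 := by
  haveI : Subsingleton (G.presheaf.stalk x) := not_not.1 h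
  simp [lenZ, Module.length_eq_zero]

variable [IsNoetherian X]

/-- An additive function vanishing on generators vanishes. -/
theorem eq_zero_of_gen (ψ : X.Modules → A) (Y' : Set X)
    (hadd : ∀ S : ShortComplex X.Modules, S.ShortExact → Coh.IsCoh S.X₁ → Coh.IsCoh S.X₂ → Coh.IsCoh S.X₃ →
      CohB1.support S.X₂ ⊆ Y' → ψ S.X₂ = ψ S.X₁ + ψ S.X₃)
    {ι : Type u} (F : ι → X.Modules) (hF : ∀ a, Coh.IsCoh (F a) ∧ CohB1.support (F a) ⊆ Y')
    (hgen : ∀ (Z : Set X), IsClosed Z → IsIrreducible Z → Z ⊆ Y' → ∀ y : X, closure ({y} : Set X) = Z →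
      ∃ a : ι, CohB1.support (F a) ⊆ Z ∧ Module.length (X.presheaf.stalk y) ((F a).presheaf.stalk y) = 1)
    (h0 : ∀ a, ψ (F a) = 0) {G : X.Modules} (hG : Coh.IsCoh G) (hGY : CohB1.support G ⊆ Y') : ψ G = 0 := by
  let P : ObjectProperty X.Modules := fun M => Coh.IsCoh M ∧ CohB1.support M ⊆ Y'
  have hle : KZero.relSub P ≤ (FreeAbelianGroup.lift fun M : Subtype P => ψ M.1).ker := by
    refine (AddSubgroup.closure_le _).2 ?_
    rintro _ ⟨S, h₁, h₂, h₃, hS, rfl⟩
    simp only [SetLike.mem_coe, AddMonoidHom.mem_ker, map_sub, FreeAbelianGroup.lift_apply_of,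
      hadd S hS h₁.1 h₂.1 h₃.1 h₂.2]
    abel
  let Δ : KZero.K0sub P →+ A := QuotientAddGroup.lift (KZero.relSub P) _ hle
  have hΔ : ∀ M, P M → Δ (KZero.clSub P M) = ψ M := fun M hM => by
    rw [KZero.clSub, dif_pos hM]
    exact (QuotientAddGroup.lift_mk _ hle _).trans (FreeAbelianGroup.lift_apply_of _ _)
  have hz : Δ = 0 := by
    refine AddMonoidHom.eq_of_eqOn_dense (H27KZero.closure_generic_length_one X Y' F hF hgen) ?_
    rintro _ ⟨a, rfl⟩
    exact (hΔ _ (hF a)).trans (h0 a)
  rw [← hΔ G ⟨hG, hGY⟩, hz, AddMonoidHom.zero_apply]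

theorem length_ne_top_of_support_subset {z : X} {G : X.Modules} (hG : Coh.IsCoh G)
    (h : CohB1.support G ⊆ closure {z}) :
    Module.length (X.presheaf.stalk z) (G.presheaf.stalk z) ≠ ⊤ :=
  (H22Alg.CohSupport.length_stalk_lt_top G hG z fun _ hx hxz => (Specializes.antisymm hxz
    (specializes_iff_mem_closure.2 (h (not_subsingleton_iff_nontrivial.2 hx)))).eq).ne

theorem lenZ_add (S : ShortComplex X.Modules) (hS : S.ShortExact) (x : X)
    (h1 : Module.length (X.presheaf.stalk x) (S.X₁.presheaf.stalk x) ≠ ⊤)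
    (h3 : Module.length (X.presheaf.stalk x) (S.X₃.presheaf.stalk x) ≠ ⊤) :
    lenZ S.X₂ x = lenZ S.X₁ x + lenZ S.X₃ x := by
  have e := congrArg ENat.toNat (H25K.length_add S hS x)
  rw [ENat.toNat_add h1 h3] at e
  simp only [lenZ, e]
  push_cast
  rfl

theorem lenZ_redMod (z : X) : lenZ (H25K.redMod (cl z)) z = 1 := by
  rw [lenZ, H25K.length_redMod (cl z) rfl]; rfl

/-- On modules supported in the closure of a point of dimension `≤ b + 1` the value is the length at that
point times the value of the reduced closure. -/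
theorem IsAddG.eq_len_smul (hd : Cyc.IsDimFun X δ) {ψ : X.Modules → A} (hψ : IsAddG δ b ψ) {z : X}
    (hz : δ z ≤ b + 1) {G : X.Modules} (hG : Coh.IsCoh G) (hGz : CohB1.support G ⊆ closure {z}) :
    ψ G = lenZ G z • ψ (H25K.redMod (cl z)) := by
  rw [← sub_eq_zero]
  refine eq_zero_of_gen (fun M => ψ M - lenZ M z • ψ (H25K.redMod (cl z))) (closure {z})
    (fun S hS h₁ h₂ h₃ hsub => ?_)
    (fun w : {w : X // w ∈ closure ({z} : Set X)} => H25K.redMod (cl w.1))
    (fun w => ⟨H25K.isCoh_redMod _, (H25K.support_redMod_subset _).trans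
      (closure_minimal (Set.singleton_subset_iff.2 w.2) isClosed_closure)⟩)
    (fun Z _ _ hZ y hy => ⟨⟨y, hZ (hy ▸ subset_closure rfl)⟩,
      hy ▸ H25K.support_redMod_subset (cl y), H25K.length_redMod (cl y) rfl⟩)
    (fun w => ?_) hG hGz
  · haveI := hS.mono_f
    haveI := hS.epi_g
    rw [hψ.add S hS h₁ h₂ h₃, lenZ_add S hS z
      (length_ne_top_of_support_subset h₁ ((LeadDev.support_subset_of_mono S.f).trans hsub))
      (length_ne_top_of_support_subset h₃ ((LeadDev.support_subset_of_epi S.g).trans hsub)), add_zsmul]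
    abel
  · obtain ⟨w, hw⟩ := w
    by_cases hwz : w = z
    · subst hwz
      rw [lenZ_redMod, one_zsmul, sub_self]
    · have hzw : z ⤳ w := specializes_iff_mem_closure.2 hw
      have h1 := (hd z w hzw (Ne.symm hwz)).1
      rw [lenZ_of_notMem fun h => hwz (Specializes.antisymm
          (specializes_iff_mem_closure.2 (H25K.support_redMod_subset _ h)) hzw).eq,
        zero_zsmul, sub_zero]
      refine hψ.small _ (H25K.isCoh_redMod _) fun x hx => ?_
      have hwx : w ⤳ x := specializes_iff_mem_closure.2 (H25K.support_redMod_subset _ hx)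
      by_cases e : w = x
      · subst e; omega
      · have := (hd w x hwx e).1
        omega

variable [IsIntegral X]

theorem length_generic_ne_top {G : X.Modules} (hG : Coh.IsCoh G) :
    Module.length (X.presheaf.stalk (genericPoint X)) (G.presheaf.stalk (genericPoint X)) ≠ ⊤ :=
  H25K.length_stalk_lt_top G hG (ringKrullDim_eq_zero_of_isField H29Ref.isField_generic)

/-- The generic rank kills every dimension below the top. -/
theorem isAddG_rank (hb : b < δ (genericPoint X)) : IsAddG δ b fun G => lenZ G (genericPoint X) where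
  congr {F G} e := by
    exact congrArg (fun l : ℕ∞ => (l.toNat : ℤ))
      ((DerSch.stalkFunctor X (genericPoint X)).mapIso e).toLinearEquiv.length_eq
  add S hS h₁ _ h₃ := lenZ_add S hS _ (length_generic_ne_top h₁) (length_generic_ne_top h₃)
  small F _ hs := lenZ_of_notMem fun h => absurd (hs _ h) (not_le.2 hb)

/-! ### Frobenius -/

omit [AlgebraicGeometry.IsNoetherian X] in
theorem frob_stalkMap (p : ℕ) [Fact p.Prime] [FrobSch.IsCharP X p] (x : X)
    (a : X.presheaf.stalk x) :
    (algebraMap (X.presheaf.stalk ((FrobSch.frob X p).base x)) (X.presheaf.stalk x)) a = a ^ p := by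
  change ((FrobSch.frob X p).stalkMap x).hom a = a ^ p
  obtain ⟨U, hxU, s, rfl⟩ := X.presheaf.exists_germ_eq (x := x) a
  refine (Scheme.Hom.germ_stalkMap_apply (FrobSch.frob X p) U x hxU s).trans ?_
  rw [FrobSch.frob_app]
  exact map_pow _ _ _

/-- Frobenius is flat at the points of codimension at most one. -/
theorem flat_frob (hX : Pi1.IsNormalScheme X) (p : ℕ) [Fact p.Prime] [FrobSch.IsCharP X p] {x : X}
    (hx : ringKrullDim (X.presheaf.stalk x) ≤ 1) :
    Module.Flat (X.presheaf.stalk ((FrobSch.frob X p).base x)) (X.presheaf.stalk x) := by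
  let R := X.presheaf.stalk x
  have hinj : Function.Injective (algebraMap (X.presheaf.stalk ((FrobSch.frob X p).base x)) R) :=
    (injective_iff_map_eq_zero _).2 fun a ha => by
      rw [frob_stalkMap] at ha
      exact (pow_eq_zero_iff (Fact.out : p.Prime).ne_zero).1 ha
  by_cases h1 : (1 : WithBot ℕ∞) ≤ ringKrullDim (X.presheaf.stalk x)
  · haveI : IsDiscreteValuationRing (X.presheaf.stalk ((FrobSch.frob X p).base x)) :=
      H29Ref.isDiscreteValuationRing_stalk hX x (le_antisymm hx h1)
    haveI : Module.IsTorsionFree (X.presheaf.stalk ((FrobSch.frob X p).base x)) R :=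
      Module.isTorsionFree_iff_algebraMap_injective.2 hinj
    infer_instance
  · letI := (H29Ref.isField_of_dim_zero ((FrobSch.frob X p).base x) h1).toField
    infer_instance

theorem isCoh_pullback' {Y : Scheme.{u}} (f : Y ⟶ X) {F : X.Modules} (hF : Coh.IsCoh F) :
    Coh.IsCoh ((Scheme.Modules.pullback f).obj F) :=
  ⟨H29Fitt.isQCoh_pullback _ F hF.1, H29Fitt.isFT_pullback _ F hF.1 hF.2⟩

theorem support_frob_pullback (p : ℕ) [Fact p.Prime] [FrobSch.IsCharP X p] (F : X.Modules) :
    CohB1.support ((Scheme.Modules.pullback (FrobSch.frob X p)).obj F) ⊆ CohB1.support F := by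
  intro x hx hs
  refine hx ?_
  haveI : Subsingleton (F.presheaf.stalk ((FrobSch.frob X p).base x)) := hs
  exact (pullStalkEquiv (FrobSch.frob X p) F x).toEquiv.symm.subsingleton

/-- Pullback by Frobenius is additive modulo codimension two. -/
theorem IsAddG.frobPullback (hd : Cyc.IsDimFun X δ) (hX : Pi1.IsNormalScheme X)
    {ψ : X.Modules → A} (hψ : IsAddG δ b ψ) (hb : δ (genericPoint X) ≤ b + 2) (p : ℕ) [Fact p.Prime]
    [FrobSch.IsCharP X p] :
    IsAddG δ b fun G => ψ ((Scheme.Modules.pullback (FrobSch.frob X p)).obj G) where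
  congr e := hψ.congr ((Scheme.Modules.pullback (FrobSch.frob X p)).mapIso e)
  small F hF hs := hψ.small _ (isCoh_pullback' _ hF) fun x hx => hs x (support_frob_pullback p F hx)
  add S hS h₁ h₂ h₃ := by
    let T := Scheme.Modules.pullback (FrobSch.frob X p)
    have c₁ : Coh.IsCoh (T.obj S.X₁) := isCoh_pullback' _ h₁
    have c₂ : Coh.IsCoh (T.obj S.X₂) := isCoh_pullback' _ h₂
    have c₃ : Coh.IsCoh (T.obj S.X₃) := isCoh_pullback' _ h₃
    change ψ (T.obj S.X₂) = ψ (T.obj S.X₁) + ψ (T.obj S.X₃)
    let S' := S.map T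
    haveI := hS.epi_g
    haveI : PreservesColimitsOfSize.{0, 0} T :=
      (Scheme.Modules.pullbackPushforwardAdjunction (FrobSch.frob X p)).leftAdjoint_preservesColimits
    haveI : Epi S'.g := inferInstanceAs (Epi (T.map S.g))
    have hex : S'.Exact := hS.exact.map_of_epi_of_preservesCokernel T inferInstance inferInstance
    have hc : Coh.IsCoh (kernel S'.g) := H10Coh.isCoh_kernel S'.g c₂ c₃.1
    have hS₂ : (ShortComplex.mk (kernel.ι S'.g) S'.g (kernel.condition _)).ShortExact :=
      { exact := ShortComplex.exact_kernel _ }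
    have e2 : ψ (T.obj S.X₂) = ψ (kernel S'.g) + ψ (T.obj S.X₃) := hψ.add _ hS₂ hc c₂ c₃
    haveI : Epi (kernel.lift S'.g S'.f S'.zero) := S'.exact_iff_epi_kernel_lift.1 hex
    have e1 : ψ (T.obj S.X₁) = ψ (kernel S'.g) := by
      refine hψ.eq_of_isoAt (kernel.lift S'.g S'.f S'.zero) c₁ hc fun x hx _ => ?_
      haveI := flat_frob hX p (x := x) (dim_stalk_le_one hd (by omega))
      haveI := hS.mono_f
      have hm0 : Mono ((DerSch.stalkFunctor X ((FrobSch.frob X p).base x)).map S.f) := inferInstance
      have hinj : Function.Injective (stalkLin S.f ((FrobSch.frob X p).base x)) :=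
        (ModuleCat.mono_iff_injective _).1 hm0
      have hl := Module.Flat.lTensor_preserves_injective_linearMap (M := X.presheaf.stalk x) _ hinj
      haveI : Mono ((DerSch.stalkFunctor X x).map S'.f) := by
        refine (ModuleCat.mono_iff_injective _).2 fun a c hac => ?_
        obtain ⟨a, rfl⟩ := (pullStalkEquiv (FrobSch.frob X p) S.X₁ x).surjective a
        obtain ⟨c, rfl⟩ := (pullStalkEquiv (FrobSch.frob X p) S.X₁ x).surjective c
        refine congrArg _ (hl ((pullStalkEquiv (FrobSch.frob X p) S.X₂ x).injective ?_))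
        exact (H16Derived.KFlat.Stalk.pullStalkLin_naturality (FrobSch.frob X p) x S.f a).trans
          (hac.trans (H16Derived.KFlat.Stalk.pullStalkLin_naturality (FrobSch.frob X p) x S.f c).symm)
      haveI : Mono ((DerSch.stalkFunctor X x).map (kernel.lift S'.g S'.f S'.zero) ≫
          (DerSch.stalkFunctor X x).map (kernel.ι S'.g)) := by
        rw [← Functor.map_comp, kernel.lift_ι]; infer_instance
      haveI hm : Mono ((DerSch.stalkFunctor X x).map (kernel.lift S'.g S'.f S'.zero)) :=
        mono_of_mono _ ((DerSch.stalkFunctor X x).map (kernel.ι S'.g))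
      haveI he : Epi ((DerSch.stalkFunctor X x).map (kernel.lift S'.g S'.f S'.zero)) :=
        Functor.map_epi _ _
      exact isIso_of_mono_of_epi ((DerSch.stalkFunctor X x).map (kernel.lift S'.g S'.f S'.zero))
    rw [e2, e1]

/-- The Frobenius pullback of a divisor has multiplicity `p`. -/
theorem lenZ_frob_redMod (hX : Pi1.IsNormalScheme X) (p : ℕ) [Fact p.Prime] [FrobSch.IsCharP X p]
    {z : X} (hz : ringKrullDim (X.presheaf.stalk z) = 1) :
    lenZ ((Scheme.Modules.pullback (FrobSch.frob X p)).obj (H25K.redMod (cl z))) z = p := by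
  let F := FrobSch.frob X p
  let R₀ := X.presheaf.stalk (F.base z)
  let R := X.presheaf.stalk z
  haveI : IsDiscreteValuationRing R₀ := H29Ref.isDiscreteValuationRing_stalk hX z hz
  haveI : IsDiscreteValuationRing R := H29Ref.isDiscreteValuationRing_stalk hX z hz
  have h1 : Module.length R₀ ((H25K.redMod (cl z)).presheaf.stalk (F.base z)) = 1 :=
    H25K.length_redMod (cl z) rfl
  obtain ⟨e⟩ := LeadDev.exists_residue_equiv h1
  obtain ⟨π, hπ⟩ := IsDiscreteValuationRing.exists_irreducible R₀
  let e₁ : TensorProduct R₀ R ((H25K.redMod (cl z)).presheaf.stalk (F.base z)) ≃ₗ[R]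
      R ⧸ (IsLocalRing.maximalIdeal R₀).map (algebraMap R₀ R) :=
    (TensorProduct.AlgebraTensorModule.congr (LinearEquiv.refl R R) e).trans
      (Algebra.TensorProduct.quotIdealMapEquivTensorQuot R (IsLocalRing.maximalIdeal R₀)).symm.toLinearEquiv
  have hI : (IsLocalRing.maximalIdeal R₀).map (algebraMap R₀ R) = Ideal.span {(show R from π) ^ p} := by
    rw [hπ.maximalIdeal_eq, Ideal.map_span, Set.image_singleton, frob_stalkMap p z π]
  have hπ' : Irreducible (show R from π) := hπ
  rw [lenZ, ← (pullStalkEquiv F (H25K.redMod (cl z)) z).length_eq, e₁.length_eq, hI]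
  change ((Ring.ord R ((show R from π) ^ p)).toNat : ℤ) = _
  rw [Ring.ord_pow (mem_nonZeroDivisors_of_ne_zero hπ'.ne_zero), Ring.ord_of_irreducible hπ']
  simp

/-- **Frobenius on codimension one**: modulo codimension two `F^*` multiplies the class of degree
zero by `p`. -/
theorem IsAddG.frob_eq (hd : Cyc.IsDimFun X δ) (hX : Pi1.IsNormalScheme X)
    {ψ : X.Modules → A} (hψ : IsAddG δ b ψ) (hb : δ (genericPoint X) = b + 2) (p : ℕ) [Fact p.Prime]
    [FrobSch.IsCharP X p] {G : X.Modules} (hG : Coh.IsCoh G) :
    ψ ((Scheme.Modules.pullback (FrobSch.frob X p)).obj G) =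
      (p : ℤ) • ψ G - (((p : ℤ) - 1) * lenZ G (genericPoint X)) • ψ (Coh.structureModule X) := by
  have hφ := hψ.frobPullback hd hX hb.le p
  have hr := isAddG_rank (δ := δ) (b := b) (X := X) (by omega)
  rw [← sub_eq_zero]
  let Fam : Option {z : X // z ≠ genericPoint X} → X.Modules := fun a =>
    a.elim (Coh.structureModule X) fun z => H25K.redMod (cl z.1)
  refine eq_zero_of_gen (fun M => ψ ((Scheme.Modules.pullback (FrobSch.frob X p)).obj M) -
    ((p : ℤ) • ψ M - (((p : ℤ) - 1) * lenZ M (genericPoint X)) • ψ (Coh.structureModule X))) Set.univ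
    (fun S hS h₁ h₂ h₃ _ => ?_) Fam
    (fun a => ⟨?_, Set.subset_univ _⟩) (fun Z _ _ _ y hy => ?_) (fun a => ?_) hG (Set.subset_univ _)
  · have e1 := hφ.add S hS h₁ h₂ h₃
    have e2 := hψ.add S hS h₁ h₂ h₃
    have e3 := hr.add S hS h₁ h₂ h₃
    beta_reduce at e1 e3
    rw [e1, e2, e3]
    simp only [mul_add, add_zsmul, zsmul_add]
    abel
  · cases a with
    | none => exact H10Coh.isCoh_structureModule' X
    | some z => exact H25K.isCoh_redMod _
  · by_cases hy' : y = genericPoint X
    · refine ⟨none, ?_, ?_⟩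
      · intro x _
        rw [← hy, hy']
        exact specializes_iff_mem_closure.1 (genericPoint_specializes x)
      · show Module.length (X.presheaf.stalk y) ((Coh.structureModule X).presheaf.stalk y) = 1
        subst hy'
        rw [← (LinearEquiv.ofBijective (LinearMap.toSpanSingleton (X.presheaf.stalk (genericPoint X)) _
          (H06EGA9.oneStalk (genericPoint X))) (H06EGA9.bijective_smul_oneStalk (genericPoint X))).length_eq]
        letI := (H29Ref.isField_generic (X := X)).toField
        exact Module.length_eq_one_iff.2 inferInstance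
    · exact ⟨some ⟨y, hy'⟩, hy ▸ H25K.support_redMod_subset (cl y), H25K.length_redMod (cl y) rfl⟩
  · cases a with
    | none =>
      have e : ψ ((Scheme.Modules.pullback (FrobSch.frob X p)).obj (Coh.structureModule X)) =
          ψ (Coh.structureModule X) := hψ.congr (H16Derived.KFlat.Stalk.structurePullbackIso _)
      have e' : lenZ (Coh.structureModule X) (genericPoint X) = 1 := by
        rw [lenZ, ← (LinearEquiv.ofBijective (LinearMap.toSpanSingleton (X.presheaf.stalk (genericPoint X)) _
          (H06EGA9.oneStalk (genericPoint X))) (H06EGA9.bijective_smul_oneStalk (genericPoint X))).length_eq]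
        letI := (H29Ref.isField_generic (X := X)).toField
        rw [Module.length_eq_one_iff.2 inferInstance]
        rfl
      simp only [Fam, Option.elim, e, e', mul_one, sub_zsmul, one_zsmul]
      abel
    | some z =>
      obtain ⟨z, hz⟩ := z
      have hlt := isDimFun_le_pred hd hz
      have hsub := H25K.support_redMod_subset (cl z)
      have e0 : lenZ (H25K.redMod (cl z)) (genericPoint X) = 0 := lenZ_of_notMem fun h => hz
        (Specializes.antisymm (specializes_iff_mem_closure.2 (hsub h)) (genericPoint_specializes z)).eq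
      have key := hψ.eq_len_smul hd (z := z) (by omega) (isCoh_pullback' (FrobSch.frob X p)
        (H25K.isCoh_redMod (cl z))) ((support_frob_pullback p _).trans hsub)
      simp only [Fam, Option.elim, e0, mul_zero, zero_zsmul, sub_zero]
      by_cases hzb : δ z = b + 1
      · have hdim : ringKrullDim (X.presheaf.stalk z) = 1 := by
          refine le_antisymm (dim_stalk_le_one hd (by omega)) (not_lt.1 fun h => hz ?_)
          rw [ringKrullDim_stalk_eq_coheight] at h
          have h0 : Order.coheight z = 0 := by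
            by_contra hne
            exact absurd h (not_lt.2 (WithBot.coe_le_coe.2 (Order.one_le_iff_pos.2 (pos_iff_ne_zero.2 hne))))
          exact ((genericPoint_specializes z).antisymm
            (Order.coheight_eq_zero.1 h0 (genericPoint_specializes z))).eq.symm
        rw [key, lenZ_frob_redMod hX p hdim, sub_self]
      · have hs : ψ (H25K.redMod (cl z)) = 0 := hψ.small _ (H25K.isCoh_redMod _) fun x hx => by
          by_cases e : z = x
          · subst e; omega
          · have := (hd z x (specializes_iff_mem_closure.2 (hsub hx)) e).1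
            omega
        rw [key, hs, smul_zero, smul_zero, sub_zero]

end Groth.Agent.H26ChowK
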