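import Groth.Agent.H26ChowK.Frob
import Groth.Agent.H26ChowK.Euler

/-!
# Reflexive Frobenius pullbacks modulo codimension two
-/

set_option autoImplicit false
set_option linter.style.haveILetI false
universe u w

open CategoryTheory CategoryTheory.Limits AlgebraicGeometry
open Groth.Agent.H06Mod

attribute [local instance] Groth.Agent.H06Mod.stalkAlgebra

noncomputable section

namespace Groth.Agent.H26ChowK

variable {X : Scheme.{u}} [IsNoetherian X] [IsIntegral X] {A : Type w} [AddCommGroup A] {δ : X → ℤ} {b : ℤ}

/-- Reflexive modules have free stalks in codimension one. -/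
theorem free_stalk_of_reflexive (hX : Pi1.IsNormalScheme X) {F : X.Modules} (hF : Coh.IsCoh F)
    (hFr : RefHull.IsReflexive F) {x : X} (hx : ringKrullDim (X.presheaf.stalk x) ≤ 1) :
    Module.Free (X.presheaf.stalk x) (F.presheaf.stalk x) := by
  haveI := H29Ref.finite_stalk F hF.2 x
  haveI := H29Ref.isTorsionFree_of_isReflexive F hF hFr x
  exact H29Ref.free_of_dim_le_one hX x hx _

/-- The class of the `m`-th reflexive Frobenius pullback modulo codimension two. -/
theorem IsAddG.frobSeq_eq (hd : Cyc.IsDimFun X δ) (hX : Pi1.IsNormalScheme X) {ψ : X.Modules → A}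
    (hψ : IsAddG δ b ψ) (hb : δ (genericPoint X) = b + 2) (p : ℕ) [Fact p.Prime] [FrobSch.IsCharP X p]
    {E : X.Modules} (hE : Coh.IsCoh E) (hEr : RefHull.IsReflexive E) (G : ℕ → X.Modules) (hG0 : G 0 = E)
    (hG : ∀ m, Nonempty (G (m + 1) ≅ RefHull.ddual ((Scheme.Modules.pullback (FrobSch.frob X p)).obj (G m)))) :
    ∀ m : ℕ, ψ (G m) = ((p : ℤ) ^ m) • (ψ E - lenZ E (genericPoint X) • ψ (Coh.structureModule X)) +
      lenZ E (genericPoint X) • ψ (Coh.structureModule X) := by
  have hr := isAddG_rank (δ := δ) (b := b) (X := X) (by omega)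
  let T := Scheme.Modules.pullback (FrobSch.frob X p)
  have step : ∀ m, ∃ M : X.Modules, Coh.IsCoh M ∧ RefHull.IsReflexive M ∧ Nonempty (G m ≅ M) ∧
      lenZ M (genericPoint X) = lenZ E (genericPoint X) ∧
      ψ M = ((p : ℤ) ^ m) • (ψ E - lenZ E (genericPoint X) • ψ (Coh.structureModule X)) +
        lenZ E (genericPoint X) • ψ (Coh.structureModule X) := by
    intro m
    induction m with
    | zero => exact ⟨E, hE, hEr, ⟨eqToIso hG0⟩, rfl, by simp⟩
    | succ m ih =>
      obtain ⟨M, hM, hMr, ⟨e⟩, hlen, hval⟩ := ih
      obtain ⟨e'⟩ := hG m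
      have hGm : Coh.IsCoh (G m) := H10Coh.isCoh_of_iso e.symm hM
      have hP := isCoh_pullback' (FrobSch.frob X p) hGm
      refine ⟨_, H29Ref.isCoh_ddual _ hP, H29Ref.isReflexive_ddual _ hP, ⟨e'⟩, ?_, ?_⟩
      · have hPM : (T.obj (G m)) ≅ T.obj M := T.mapIso e
        have c1 : lenZ (RefHull.ddual (T.obj (G m))) (genericPoint X) = lenZ (T.obj (G m)) (genericPoint X) :=
          (hr.eq_of_isoAt (RefHull.bidualMap _) hP (H29Ref.isCoh_ddual _ hP) fun x hx _ => by
            haveI : Module.Free (X.presheaf.stalk ((FrobSch.frob X p).base x))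
                (M.presheaf.stalk ((FrobSch.frob X p).base x)) :=
              free_stalk_of_reflexive hX hM hMr (x := x) (dim_stalk_le_one hd (by omega))
            haveI : Module.Free (X.presheaf.stalk x) ((T.obj (G m)).presheaf.stalk x) :=
              Module.Free.of_equiv ((pullStalkEquiv (FrobSch.frob X p) M x).trans
                ((DerSch.stalkFunctor X x).mapIso hPM.symm).toLinearEquiv)
            haveI := H29Ref.finite_stalk (T.obj (G m)) hP.2 x
            exact (ConcreteCategory.isIso_iff_bijective _).2
              ((H29Ref.isReflexiveAt_iff _ (H10Coh.isFP_of_isCoh _ hP) (H29Ref.isFP_dual _ hP) x).1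
                (inferInstance : Module.IsReflexive (X.presheaf.stalk x) ((T.obj (G m)).presheaf.stalk x)))).symm
        have c2 := hr.frob_eq hd hX hb p hM
        have c3 : lenZ (T.obj (G m)) (genericPoint X) = lenZ (T.obj M) (genericPoint X) := hr.congr hPM
        have c4 : lenZ (Coh.structureModule X) (genericPoint X) = 1 := by
          rw [lenZ, ← (LinearEquiv.ofBijective (LinearMap.toSpanSingleton (X.presheaf.stalk (genericPoint X)) _
            (H06EGA9.oneStalk (genericPoint X))) (H06EGA9.bijective_smul_oneStalk (genericPoint X))).length_eq]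
          letI := (H29Ref.isField_generic (X := X)).toField
          rw [Module.length_eq_one_iff.2 inferInstance]
          rfl
        beta_reduce at c2
        rw [c4, smul_eq_mul, smul_eq_mul, mul_one] at c2
        rw [c1, c3, c2, ← hlen]
        ring
      · have d1 : ψ (RefHull.ddual (T.obj (G m))) = ψ (T.obj (G m)) := by
          refine (hψ.eq_of_isoAt (RefHull.bidualMap _) hP (H29Ref.isCoh_ddual _ hP) fun x hx _ => ?_).symm
          haveI : Module.Free (X.presheaf.stalk ((FrobSch.frob X p).base x))
              (M.presheaf.stalk ((FrobSch.frob X p).base x)) :=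
            free_stalk_of_reflexive hX hM hMr (x := x) (dim_stalk_le_one hd (by omega))
          haveI : Module.Free (X.presheaf.stalk x) ((T.obj (G m)).presheaf.stalk x) :=
            Module.Free.of_equiv ((pullStalkEquiv (FrobSch.frob X p) M x).trans
              ((DerSch.stalkFunctor X x).mapIso (T.mapIso e).symm).toLinearEquiv)
          haveI := H29Ref.finite_stalk (T.obj (G m)) hP.2 x
          exact (ConcreteCategory.isIso_iff_bijective _).2
            ((H29Ref.isReflexiveAt_iff _ (H10Coh.isFP_of_isCoh _ hP) (H29Ref.isFP_dual _ hP) x).1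
              (inferInstance : Module.IsReflexive (X.presheaf.stalk x) ((T.obj (G m)).presheaf.stalk x)))
        rw [d1, hψ.congr (T.mapIso e), hψ.frob_eq hd hX hb p hM, hlen, hval, pow_succ, mul_comm ((p : ℤ) ^ m),
          mul_zsmul]
        simp only [sub_zsmul, one_zsmul, mul_zsmul, zsmul_add, zsmul_sub]
        abel
  intro m
  obtain ⟨M, -, -, ⟨e⟩, -, hval⟩ := step m
  rw [hψ.congr e, hval]

end Groth.Agent.H26ChowK
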