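import Groth.Agent.H26ChowK.Basic
import Groth.Agent.H29Ref.DivClass
import Groth.Agent.H29Ref.BigOpen
import Groth.Agent.H19Grp.Dimension
import Groth.Agent.H27KZero.Devissage
import Groth.Prelude.Def_RefPow
import Groth.Prelude.Def_FGA

/-!
# Iterated differences and rank one reflexive modules
-/

set_option autoImplicit false
set_option linter.style.haveILetI false
universe u w

open CategoryTheory CategoryTheory.Limits AlgebraicGeometry TopologicalSpace
open Groth.Agent.H8Props.FunDescent (StalkFree)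

noncomputable section

namespace Groth.Agent.H26ChowK

variable {X : Scheme.{u}} {A : Type w} [AddCommGroup A] {δ : X → ℤ} {b : ℤ}

/-! ### Dimension functions on integral schemes -/

theorem isDimFun_le_generic (hd : Cyc.IsDimFun X δ) [IsIntegral X] (x : X) : δ x ≤ δ (genericPoint X) := by
  by_cases h : genericPoint X = x
  · rw [h]
  · exact (hd _ x (genericPoint_specializes x) h).1.le

theorem isDimFun_le_pred (hd : Cyc.IsDimFun X δ) [IsIntegral X] {x : X} (hx : x ≠ genericPoint X) :
    δ x + 1 ≤ δ (genericPoint X) := by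
  have := (hd _ x (genericPoint_specializes x) hx.symm).1
  omega

/-- Points of dimension at least `δ η - 1` have local rings of dimension at most one. -/
theorem dim_stalk_le_one (hd : Cyc.IsDimFun X δ) [IsIntegral X] {x : X}
    (hx : δ (genericPoint X) ≤ δ x + 1) : ringKrullDim (X.presheaf.stalk x) ≤ 1 := by
  rw [ringKrullDim_stalk_eq_coheight]
  refine WithBot.coe_le_coe.2 (Order.coheight_le fun p hp => ?_)
  by_contra hlen
  have h2 : 2 ≤ p.length := by
    have : 1 < p.length := by exact_mod_cast not_le.1 hlen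
    omega
  have hlt : ∀ {a c : X}, a < c → δ a < δ c := fun {a c} hac =>
    (hd c a hac.le fun h => hac.ne h.symm).1
  have a1 := hlt (p.strictMono
    (show (⟨0, by omega⟩ : Fin (p.length + 1)) < ⟨1, by omega⟩ from Nat.zero_lt_one))
  have a2 := hlt (p.strictMono
    (show (⟨1, by omega⟩ : Fin (p.length + 1)) < ⟨2, by omega⟩ from Nat.one_lt_two))
  have a3 := isDimFun_le_generic hd (p ⟨2, by omega⟩)
  have a4 : δ x = δ (p ⟨0, by omega⟩) := congrArg δ hp.symm
  omega

/-- The codimension of a point is at least the drop of `δ`. -/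
theorem sub_le_coheight (hd : Cyc.IsDimFun X δ) [IsIntegral X] :
    ∀ (d : ℕ) (x : X), δ (genericPoint X) - δ x = (d : ℤ) → (d : ℕ∞) ≤ Order.coheight x := by
  intro d
  induction d with
  | zero => exact fun _ _ => by simp
  | succ d ih =>
    intro x hx
    classical
    have hne : genericPoint X ≠ x := fun h => by rw [h] at hx; push_cast at hx; omega
    let S : Set ℕ := {m | ∃ z : X, z ⤳ x ∧ z ≠ x ∧ δ z - δ x = (m : ℤ)}
    have hS : S.Nonempty := ⟨d + 1, genericPoint X, genericPoint_specializes x, hne, hx⟩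
    obtain ⟨z, hzx, hzne, hz⟩ := Nat.sInf_mem hS
    have himm := (hd z x hzx hzne).2 fun w hzw hwx => by
      by_contra hcon
      rw [not_or] at hcon
      have b1 := (hd z w hzw (Ne.symm hcon.1)).1
      have b2 := (hd w x hwx hcon.2).1
      obtain ⟨m, hm⟩ : ∃ m : ℕ, δ w - δ x = (m : ℤ) := ⟨(δ w - δ x).toNat, by omega⟩
      have : sInf S ≤ m := Nat.sInf_le ⟨w, hwx, hcon.2, hm⟩
      omega
    have h1 := ih z (by push_cast at hx; omega)
    have hlt : x < z := lt_of_le_not_ge hzx fun h => hzne (Specializes.antisymm hzx h).eq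
    calc ((d + 1 : ℕ) : ℕ∞) = (d : ℕ∞) + 1 := by push_cast; rfl
      _ ≤ Order.coheight z + 1 := by gcongr
      _ ≤ Order.coheight x := Order.coheight_add_one_le hlt

/-- If `δ η = dim X` then `δ` is nonnegative. -/
theorem isDimFun_nonneg (hd : Cyc.IsDimFun X δ) [IsIntegral X] {n : ℕ}
    (hdim : topologicalKrullDim X = (n : ℕ)) (hη : δ (genericPoint X) = (n : ℕ)) (x : X) : 0 ≤ δ x := by
  have hle := isDimFun_le_generic hd x
  obtain ⟨d, hdd⟩ : ∃ d : ℕ, δ (genericPoint X) - δ x = (d : ℤ) :=
    ⟨(δ (genericPoint X) - δ x).toNat, by omega⟩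
  have h1 := sub_le_coheight hd d x hdd
  have h2 : ((Order.coheight x : ℕ∞) : WithBot ℕ∞) ≤ ((n : ℕ∞) : WithBot ℕ∞) := by
    refine le_trans ?_ (le_of_eq hdim)
    rw [H19Grp.topologicalKrullDim_eq_iSup_coheight]
    exact le_iSup (fun y : X => ((Order.coheight y : ℕ∞) : WithBot ℕ∞)) x
  have h3 : (d : ℕ∞) ≤ (n : ℕ∞) := h1.trans (WithBot.coe_le_coe.1 h2)
  have h4 : d ≤ n := by exact_mod_cast h3
  omega

/-! ### Classes -/

variable [IsNoetherian X]

theorem cohLe_congr {k : ℤ} {F G : X.Modules} (e : F ≅ G) (h : Cyc.CohLe δ k F) : Cyc.CohLe δ k G :=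
  ⟨H10Coh.isCoh_of_iso e h.1, fun x hx => h.2 x (not_subsingleton_iff_nontrivial.1
    (LeadDev.support_subset_of_iso e.symm (not_subsingleton_iff_nontrivial.2 hx)))⟩

variable {n : ℤ}

theorem cohLe_of_isCoh (hn : ∀ x : X, δ x ≤ n) {F : X.Modules} (hF : Coh.IsCoh F) : Cyc.CohLe δ n F :=
  ⟨hF, fun x _ => hn x⟩

/-- The class in the whole group is additive and kills nothing but zero modules. -/
theorem isAddG_clSub (hn : ∀ x : X, δ x ≤ n) (hb : ∀ x : X, b < δ x) :
    IsAddG δ b fun F => KZero.clSub (Cyc.CohLe δ n) F where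
  congr {F G} e := by
    by_cases hF : Cyc.CohLe δ n F
    · obtain ⟨O, hO⟩ := HasZeroObject.zero (C := X.Modules)
      exact H27KZero.clSub_iso e hF (cohLe_congr e hF) hO
        (cohLe_of_isCoh hn (LeadDev.isCoh_of_isZero hO))
    · have hG : ¬ Cyc.CohLe δ n G := fun h => hF (cohLe_congr e.symm h)
      simp only [KZero.clSub, dif_neg hF, dif_neg hG]
  add S hS h₁ h₂ h₃ := H27KZero.clSub_shortExact hS (cohLe_of_isCoh hn h₁) (cohLe_of_isCoh hn h₂)
    (cohLe_of_isCoh hn h₃)
  small F hF hs := by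
    refine H27KZero.clSub_zero (H16Derived.KFlat.Stalk.isZero_of_stalk fun x =>
      (H25Euler.notMem_support_iff F x).1 fun hx => ?_) (cohLe_of_isCoh hn hF)
    exact absurd (hs x hx) (not_le.2 (hb x))

/-- The class in the quotient is additive and kills dimension `≤ b`. -/
theorem isAddG_toK0CohQuot (hn : ∀ x : X, δ x ≤ n) :
    IsAddG δ b fun F => Cyc.toK0CohQuot δ n b F where
  congr {F G} e := by
    by_cases hF : Cyc.CohLe δ n F
    · obtain ⟨O, hO⟩ := HasZeroObject.zero (C := X.Modules)
      exact congrArg QuotientAddGroup.mk (H27KZero.clSub_iso e hF (cohLe_congr e hF) hO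
        (cohLe_of_isCoh hn (LeadDev.isCoh_of_isZero hO)))
    · have hG : ¬ Cyc.CohLe δ n G := fun h => hF (cohLe_congr e.symm h)
      simp only [Cyc.toK0CohQuot, KZero.clSub, dif_neg hF, dif_neg hG]
  add S hS h₁ h₂ h₃ := by
    simp only [Cyc.toK0CohQuot, H27KZero.clSub_shortExact hS (cohLe_of_isCoh hn h₁)
      (cohLe_of_isCoh hn h₂) (cohLe_of_isCoh hn h₃)]
    exact map_add (QuotientAddGroup.mk' _) _ _
  small F hF hs := (QuotientAddGroup.eq_zero_iff _).2 (AddSubgroup.subset_closure
    ⟨F, ⟨hF, fun x hx => hs x (not_subsingleton_iff_nontrivial.2 hx)⟩, rfl⟩)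

/-! ### Iterated differences -/

theorem nearTriv_of_isInvertible {M : X.Modules} (hM : PicF.IsInvertible M) (x : X) : NearTriv M x :=
  hM x

/-- `D ψ [A₁, …, A_r] = ψ ∘ ∏ (1 - A_i ⊗ -)`. -/
def D (ψ : X.Modules → A) : List X.Modules → X.Modules → A
  | [], F => ψ F
  | M :: l, F => D ψ l F - D ψ l (CohB1.tensorMod M F)

theorem isAddG_D (hd : Cyc.IsDimFun X δ) {ψ : X.Modules → A} (hψ : IsAddG δ b ψ) :
    ∀ l : List X.Modules, (∀ M ∈ l, PicF.IsInvertible M) → IsAddG δ (b + l.length) (D ψ l)
  | [], _ => by simpa [D] using hψ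
  | M :: l, h => by
    have hl := isAddG_D hd hψ l fun N hN => h N (List.mem_cons_of_mem _ hN)
    have hM := h M List.mem_cons_self
    have hsub := hl.sub_tensor hd (H10Coh.isCoh_of_iso (H10Coh.Tw.leftUnitIso M)
      (H11Ample.isCoh_tensor (H10Coh.isCoh_structureModule' X) hM))
      fun x _ => nearTriv_of_isInvertible hM x
    have e : (fun G => D ψ l G - D ψ l (CohB1.tensorMod G M)) = D ψ (M :: l) := funext fun G =>
      congrArg _ (hl.congr (H10Coh.Tw.commIso G M))
    rw [e] at hsub
    simpa [List.length_cons, add_assoc] using hsub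

theorem sum_eq_D {ψ : X.Modules → A} (hcongr : ∀ {F G : X.Modules}, (F ≅ G) → ψ F = ψ G) :
    ∀ (r : ℕ) (M : Fin r → X.Modules), (∀ i, PicF.IsInvertible (M i)) → ∀ F : X.Modules,
    ∑ I : Finset (Fin r), ((-1 : ℤ) ^ I.card) •
      ψ (CohB1.tensorMod (FGA.tensorList ((I.sort (· ≤ ·)).map M)) F) = D ψ (List.ofFn M) F
  | 0, M, _, F => by
    rw [List.ofFn_zero, Fintype.sum_unique]
    simp only [Finset.eq_empty_of_isEmpty, Finset.card_empty, pow_zero, one_zsmul, Finset.sort_empty,
      List.map_nil, FGA.tensorList]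
    exact hcongr (H10Coh.Tw.leftUnitIso F)
  | r + 1, M, hM, F => by
    classical
    have hu : (Finset.univ : Finset (Finset (Fin (r + 1)))) =
        (insert 0 ((Finset.univ : Finset (Fin r)).image Fin.succ)).powerset := by
      rw [← Finset.powerset_univ]
      congr 1
      ext a
      cases a using Fin.cases <;> simp
    rw [List.ofFn_succ]
    change _ = D ψ (List.ofFn fun i => M i.succ) F -
      D ψ (List.ofFn fun i => M i.succ) (CohB1.tensorMod (M 0) F)
    rw [← sum_eq_D hcongr r (fun i => M i.succ) (fun i => hM _) F,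
      ← sum_eq_D hcongr r (fun i => M i.succ) (fun i => hM _) (CohB1.tensorMod (M 0) F), hu,
      Finset.sum_powerset_insert (by simp [Fin.succ_ne_zero]), Finset.powerset_image,
      Finset.sum_image (fun a _ b _ h => Finset.image_injective (Fin.succ_injective _) h),
      Finset.sum_image (fun a _ b _ h => Finset.image_injective (Fin.succ_injective _) h),
      Finset.powerset_univ, sub_eq_add_neg, ← Finset.sum_neg_distrib]
    congr 1 <;> refine Finset.sum_congr rfl fun J _ => ?_
    · rw [Finset.card_image_of_injective _ (Fin.succ_injective _), H28Int.sort_image_succ, List.map_map]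
      rfl
    · rw [Finset.card_insert_of_notMem (by simp [Fin.succ_ne_zero]),
        Finset.card_image_of_injective _ (Fin.succ_injective _), H28Int.sort_insert_zero, List.map_cons,
        List.map_map, pow_succ, mul_neg_one, neg_zsmul]
      congr 2
      exact hcongr (PicGrp.tensorModIso (H10Coh.Tw.commIso _ _) (Iso.refl F) ≪≫ H10Coh.Tw.assoc _ _ _)

/-! ### Rank one reflexive modules -/

variable [IsIntegral X]

theorem nearTriv_of_isRef1 (hX : Pi1.IsNormalScheme X) {M : X.Modules} (hM : RefHull.IsRef1 M)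
    {x : X} (hx : ringKrullDim (X.presheaf.stalk x) ≤ 1) :
    NearTriv M x ∧ StalkFree M 1 x := by
  have hη := H29Ref.stalkFree_generic M hM.1 hM.2.2
  haveI := H29Ref.finite_stalk M hM.1.2 x
  haveI := H29Ref.isTorsionFree_of_isReflexive M hM.1 hM.2.1 x
  haveI := H29Ref.free_of_dim_le_one hX x hx (M.presheaf.stalk x)
  have h1 := H29Ref.stalkFree_one_of_free M hM.1 hη x
  exact ⟨H29Ref.exists_iso_of_isFreeOfRankNear_one M x
    (H8Props.FunDescent.isFreeOfRankNear_of_stalkFree_of_isFP M (H10Coh.isFP_of_isCoh M hM.1) h1), h1⟩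

/-- Modulo codimension one all rank one reflexive modules have the class of the structure sheaf. -/
theorem IsAddG.eq_of_isRef1 (hd : Cyc.IsDimFun X δ) (hX : Pi1.IsNormalScheme X) {ψ : X.Modules → A}
    (hψ : IsAddG δ b ψ) (hb : δ (genericPoint X) ≤ b + 1) {M : X.Modules} (hM : RefHull.IsRef1 M) :
    ψ M = ψ (Coh.structureModule X) :=
  hψ.eq_structureModule (fun x hx => by
      by_contra hne
      have := isDimFun_le_pred hd hne
      omega) hM.1
    (nearTriv_of_isRef1 hX hM (dim_stalk_le_one hd (by omega))).1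

/-- Modulo codimension two the class is additive for the reflexive tensor product. -/
theorem IsAddG.refTensor_add (hd : Cyc.IsDimFun X δ) (hX : Pi1.IsNormalScheme X) {ψ : X.Modules → A}
    (hψ : IsAddG δ b ψ) (hb : δ (genericPoint X) ≤ b + 2) {M N : X.Modules} (hM : RefHull.IsRef1 M)
    (hN : RefHull.IsRef1 N) :
    ψ (RefPow.refTensor M N) + ψ (Coh.structureModule X) = ψ M + ψ N := by
  have hgood : ∀ x, b < δ x → ringKrullDim (X.presheaf.stalk x) ≤ 1 := fun x hx =>
    dim_stalk_le_one hd (by omega)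
  have hΦ := hψ.sub_tensor hd hN.1 fun x hx => (nearTriv_of_isRef1 hX hN (hgood x hx)).1
  have e := hΦ.eq_of_isRef1 hd hX (by omega) hM
  beta_reduce at e
  rw [hψ.congr (H10Coh.Tw.leftUnitIso N)] at e
  have hT : Coh.IsCoh (CohB1.tensorMod M N) := H10Coh.TT.isCoh_tensorMod hM.1 hN.1
  have e2 : ψ (CohB1.tensorMod M N) = ψ (RefPow.refTensor M N) := by
    refine hψ.eq_of_isoAt (RefHull.bidualMap (CohB1.tensorMod M N)) hT
      (H29Ref.isCoh_ddual _ hT) fun x hx _ => ?_
    obtain ⟨β⟩ := H29Ref.stalkFree_tensorMod (nearTriv_of_isRef1 hX hM (hgood x hx)).2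
      (nearTriv_of_isRef1 hX hN (hgood x hx)).2
    haveI := Module.Free.of_basis β
    haveI := H29Ref.finite_stalk _ hT.2 x
    have hbij := (H29Ref.isReflexiveAt_iff _ (H10Coh.isFP_of_isCoh _ hT) (H29Ref.isFP_dual _ hT) x).1
      (inferInstance : Module.IsReflexive (X.presheaf.stalk x) ((CohB1.tensorMod M N).presheaf.stalk x))
    exact (ConcreteCategory.isIso_iff_bijective _).2 hbij
  rw [e2] at e
  linear_combination (norm := abel) -e

end Groth.Agent.H26ChowK
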