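import Groth.Agent.H26ChowK.Ref
import Groth.Agent.H17.InvertibleTensor
import Groth.Agent.H26ChowK.Ref

/-!
# Setup for projective normal varieties
-/

set_option autoImplicit false
set_option linter.style.haveILetI false
universe u

open CategoryTheory CategoryTheory.Limits AlgebraicGeometry

noncomputable section

namespace Groth.Agent.H26ChowK

theorem isNoetherian_of_proj {k : Type u} [Field k] {X : Scheme.{u}} (pX : X ⟶ Spec (CommRingCat.of k))
    (hproj : ∃ (N : ℕ) (ι : X ⟶ CohB1.ProjSpace N k),
      IsClosedImmersion ι ∧ ι ≫ CohB1.ProjSpace.toSpec N k = pX) : IsNoetherian X := by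
  obtain ⟨N, ι, hι, hι'⟩ := hproj
  haveI := hι
  haveI : QuasiCompact pX := hι' ▸ inferInstance
  haveI : LocallyOfFiniteType pX := hι' ▸ inferInstance
  haveI : CompactSpace X := QuasiCompact.compactSpace_of_compactSpace pX
  haveI : IsLocallyNoetherian X := LocallyOfFiniteType.isLocallyNoetherian pX
  exact {}

theorem isInvertible_inv {X : Scheme.{u}} {L M : X.Modules}
    (e : CohB1.tensorMod L M ≅ Coh.structureModule X) : PicF.IsInvertible M :=
  H17.InvertibleTensor.isInvertible_of_tensor_iso M L (H10Coh.Tw.commIso M L ≪≫ e)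

end Groth.Agent.H26ChowK

namespace Groth.Agent.H26ChowK

universe w

variable {X : Scheme.{u}} {A : Type w} [AddCommGroup A] {δ : X → ℤ} {b : ℤ}

/-- The defect of additivity of the first twist is a difference of one more step. -/
theorem D_cons_tensor {ψ : X.Modules → A} {l : List X.Modules}
    (hcongr : ∀ {F G : X.Modules}, (F ≅ G) → D ψ l F = D ψ l G) (P Q F : X.Modules) :
    D ψ (CohB1.tensorMod P Q :: l) F = D ψ (P :: l) F + D ψ (Q :: l) F - D ψ (P :: Q :: l) F := by
  simp only [D, hcongr (PicGrp.tensorModIso (H10Coh.Tw.commIso P Q) (Iso.refl F) ≪≫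
    H10Coh.Tw.assoc Q P F)]
  abel

end Groth.Agent.H26ChowK
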